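import Cfsg.Agent.Lib.Comp.Rz.Pc

set_option maxRecDepth 100000
set_option maxHeartbeats 400000
set_option Elab.async false

namespace Cfsg.Lib.Comp.Rz

theorem ck4 : allR 4096 32 32 chk = true := by decide +kernel

theorem ck5 : allR 5120 32 32 chk = true := by decide +kernel

theorem ck6 : allR 6144 32 32 chk = true := by decide +kernel

theorem ck7 : allR 7168 32 32 chk = true := by decide +kernel

end Cfsg.Lib.Comp.Rz
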