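import Cfsg.Agent.Lib.Comp.Rz.Pc

set_option maxRecDepth 100000
set_option maxHeartbeats 400000
set_option Elab.async false

namespace Cfsg.Lib.Comp.Rz

theorem ck8 : allR 8192 32 32 chk = true := by decide +kernel

theorem ck9 : allR 9216 32 32 chk = true := by decide +kernel

theorem ck10 : allR 10240 32 32 chk = true := by decide +kernel

theorem ck11 : allR 11264 32 32 chk = true := by decide +kernel

end Cfsg.Lib.Comp.Rz
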