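/-
The double cover of the Rudvalis group as a stem extension.
-/
import Cfsg.Agent.Lib.Comp.Rz.Net
import Cfsg.Agent.Lib.Comp.Sym
import Cfsg.Agent.Lib.Ru.Iso

set_option autoImplicit false
set_option maxRecDepth 100000
set_option maxHeartbeats 400000
set_option Elab.async false

namespace Cfsg.Lib.Comp.Rz

open Subgroup Cfsg.Lib.Mult Cfsg.Lib.RuL
open scoped commutatorElement

theorem cover_of2 {G : Type} [Group G] [IsSimpleGroup G] {g : ℕ → G} {iv : ℕ → ℕ} {R : List (List ℕ × ℕ)}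
    {L : List ℕ} (hi : IvOK g iv) (hr : Rels g R) {n : ℕ} (ho : Ord.{0} iv R L n) (hn : n ≤ Nat.card G)
    (ht : cl g L = ⊤) {Δ : Type} [Group Δ] {δ : ℕ → Δ} [Finite (cl δ L)] {Rz : List (List ℕ × ℕ)} (hR : Rels δ Rz)
    {z m e : ℕ} {a b : List ℕ} (hc : CoverOK iv R Rz L z m a b) (hz : ∀ x ∈ L, ev δ [x, z] = ev δ [z, x])
    (hab : ⁅ev δ a, ev δ b⁆ ^ e = δ z) {x y : ℕ} (hx : x ∈ L) (hy : y ∈ L) (hxy : ev δ [x, y] ≠ ev δ [y, x]) :
    ∃ σ : cl δ L →* G, IsStemExtension σ ∧ (∀ u, u ∈ σ.ker ↔ u.1 ∈ zpowers (δ z)) ∧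
      ∀ x (hx : x ∈ L), σ ⟨δ x, mem_cl hx⟩ = g x := by
  classical
  obtain ⟨c1, c2, c3, c4, c5⟩ := hc
  let A : cl δ L := ⟨ev δ a, ev_mem fun x hx => mem_cl (c4 x hx)⟩
  let B : cl δ L := ⟨ev δ b, ev_mem fun x hx => mem_cl (c5 x hx)⟩
  let Z : cl δ L := ⁅A, B⁆ ^ e
  have hZ : (Z : Δ) = δ z := hab
  have hZc : Z ∈ center (cl δ L) := mem_center_iff.2 fun u => Subtype.ext <| by
    have : cl δ L ≤ centralizer {δ z} := cl_le.2 fun x hx => mem_centralizer_singleton_iff.2 (by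
      simpa [ev_cons, ev_nil] using hz x hx)
    rw [coe_mul, coe_mul, hZ]; exact mem_centralizer_singleton_iff.1 (this u.2)
  have hN : (zpowers Z).Normal := normal_of_le_center (zpowers_le.2 hZc)
  let π := QuotientGroup.mk' (zpowers Z)
  let ε : ℕ → cl δ L ⧸ zpowers Z := fun x => if x ∈ L then π (sval _ δ x) else 1
  have e1 : ∀ u : List ℕ, (∀ x ∈ u, x ∈ L) → ev ε u = π (ev (sval _ δ) u) := fun u hu => by
    rw [ev_map]; exact ev_congr' fun x hx => if_pos (hu x hx)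
  have e2 : ∀ r : List ℕ × ℕ, (∀ x ∈ r.1, x ∈ L) → UpTo z m Rz r → ev ε r.1 ^ (r.2 + 1) = 1 := fun r h3 h4 => by
    rw [e1 _ h3, ← map_pow]
    refine (QuotientGroup.eq_one_iff _).2 ?_
    obtain ⟨i, hi⟩ := h4.mem hR
    refine ⟨i, Subtype.ext ?_⟩
    rw [coe_zpow, hZ, coe_pow, coe_ev_sval fun x hx => mem_cl (h3 x hx)]; exact hi
  have i1 : IvOK ε iv := by
    refine ⟨if_neg c1, fun x hx => ⟨(c2 x hx).1, ?_⟩⟩
    obtain ⟨-, d2, d3⟩ := c2 x hx
    by_cases hL : x ∈ L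
    · rw [eq_inv_iff_mul_eq_one, mul_eq_one_comm]
      rcases d3 hL with d | ⟨d, d'⟩
      · simpa [ev_cons, ev_nil] using e2 _ (by simp [hL, d2.1 hL]) d
      · simpa [ev_cons, ev_nil, d, pow_two] using e2 _ (by simp [hL]) d'
    · simp only [ε, if_neg hL, if_neg (mt d2.2 hL), inv_one]
  have i2 : Rels ε R := fun r hr => e2 r (c3 r hr).1 (c3 r hr).2
  obtain ⟨f, hf⟩ := hom_of_ord.{0, 0} ho hi hr i1 i2 (by rwa [ht, card_top])
  let f' : G →* cl δ L ⧸ zpowers Z := f.comp ((MonoidHom.id G).codRestrict _ fun u => ht ▸ mem_top u)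
  have hf' : ∀ x ∈ L, f' (g x) = π (sval _ δ x) := fun x hx => by
    have := hf [x] (by simpa using hx)
    rw [ev_single ε, show ε x = _ from if_pos hx] at this
    rw [← this]
    exact congrArg f (Subtype.ext (ev_single g x).symm)
  have s1 : Function.Surjective f' := by
    rw [← MonoidHom.range_eq_top, eq_top_iff, ← MonoidHom.range_eq_top.2 (QuotientGroup.mk'_surjective (zpowers Z)),
      MonoidHom.range_eq_map, ← cl_sval_top δ L, cl_map, cl_le]
    exact fun x hx => ⟨g x, hf' x hx⟩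
  have s2 : Function.Injective f' := by
    rw [← MonoidHom.ker_eq_bot_iff]
    refine (IsSimpleGroup.eq_bot_or_eq_top_of_normal f'.ker inferInstance).resolve_right fun h => hxy ?_
    have h3 : f' (g x) = 1 := by rw [← MonoidHom.mem_ker, h]; exact mem_top _
    rw [hf' x hx] at h3
    have h4 := mem_center_iff.1 (zpowers_le.2 hZc ((QuotientGroup.eq_one_iff _).1 h3)) (sval _ δ y)
    have h5 := congrArg Subtype.val h4
    rw [coe_mul, coe_mul, coe_sval (mem_cl hx), coe_sval (mem_cl hy)] at h5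
    simpa [ev_cons, ev_nil] using h5.symm
  let E := MulEquiv.ofBijective f' ⟨s2, s1⟩
  have hk : π.ker = zpowers Z := QuotientGroup.ker_mk' _
  have hs : IsStemExtension π := ⟨QuotientGroup.mk'_surjective _, hk.le.trans (zpowers_le.2 hZc), hk.le.trans
    (zpowers_le.2 (pow_mem (commutator_mem_commutator (mem_top A) (mem_top B)) e))⟩
  have k1 : (E.symm.toMonoidHom.comp π).ker = zpowers Z := Eq.trans (by ext; simp) hk
  refine ⟨_, equiv_comp_stem hs E.symm, fun u => ?_, fun x hx => E.symm_apply_eq.2 ?_⟩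
  · rw [k1, ← hZ]
    exact ⟨fun ⟨i, h⟩ => ⟨i, congrArg Subtype.val h⟩, fun ⟨i, h⟩ => ⟨i, Subtype.ext h⟩⟩
  · exact (congrArg π (Subtype.ext (coe_sval (mem_cl hx)).symm)).trans (hf' x hx).symm

/-- The double cover. -/
noncomputable abbrev GG : Subgroup (Equiv.Perm ℕ) := cl (gp cn) Rux.L

instance finGG : Finite GG := cn_ok.finite _

/-- All letters. -/
def LL : List ℕ := [1,2,3,4,5,6,7,8,9,10,11,12,13,14,15,16,17,18,19,20,21,22,23,24]

theorem memL {x : ℕ} (h : x ∈ LL) : gp cn x ∈ GG :=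
  (cl_eq_of_slpB cn_ok (by norm_num) slp_ok).le (mem_cl ((show LL = [1,2,3,4,5,6,7,8,9,10,11,12,13,14,15,16] ++ slp.map (·.1) by decide +kernel) ▸ h))

/-- Point images. -/
noncomputable def tb : ℕ → ℕ → ℕ := tbx 16384 (tbk 14 4 prs14 cn 128)

theorem htb : TbA cn tb := tbA_tbx cn_ok (tbk_eq tr14 (by norm_num) (by norm_num) (by norm_num) cn_ok)

theorem zz : gp cn 17 * gp cn 17 = 1 := by simpa [ev_single, sq] using cn_rel ([17], 1) (by decide +kernel)

theorem z0 : (gp cn 17)⁻¹ 0 = 2 := (htb 17 0).symm.trans (by decide +kernel)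

theorem z_ne : gp cn 17 ≠ 1 := fun h => by have := z0; rw [h] at this; simp at this

theorem zcomm {x : ℕ} (hx : x ∈ Rux.L) : ev (gp cn) [x, 17] = ev (gp cn) [17, x] := by
  simpa using eq_of_eqB cn_ok (by norm_num) (allL_iff.1 zc x hx)

theorem exists_sigma : ∃ σ : GG →* HH, IsStemExtension σ ∧ (∀ u, u ∈ σ.ker ↔ u.1 = 1 ∨ u.1 = gp cn 17) ∧
    ∀ x (hx : x ∈ Rux.L), (σ ⟨gp cn x, mem_cl hx⟩).1 = gp Rux.nets x := by
  have := Rux.simple
  obtain ⟨σ, h1, h2, h3⟩ := cover_of2 (G := HH) (Rux.nets_iv.sval _)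
    (Rux.nets_rel.sval fun r h x hx => mem_cl (by revert x r; decide +kernel)) Rux.ord Rux.lb (cl_sval_top _ _) cn_rel
    (z := 17) (m := 2) (by decide +kernel) (fun x => zcomm) cm (x := 2) (y := 12) (by decide) (by decide)
    (ne_of_wap htb (p := 4) (by decide +kernel))
  refine ⟨σ, h1, fun u => (h2 u).trans ⟨?_, ?_⟩, fun x hx => (congrArg _ (h3 x hx)).trans (coe_sval (mem_cl hx))⟩
  · rintro ⟨i, h⟩
    rw [← h]
    rcases Int.even_or_odd' i with ⟨k, rfl | rfl⟩ <;> simp [zpow_add, zpow_mul, zpow_ofNat, sq, zz]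
  · rintro (h | h) <;> rw [h]
    exacts [one_mem _, mem_zpowers _]

theorem blk0 : allL [1,2,3,4,5,6,7,8] (fun x => allR 0 70 232 fun q => force (tb x q) fun r =>
    cnd (Nat.ble r 16239) (Nat.beq (Nat.div r 4) (RuM.tb x (Nat.div q 4))) false) = true := by decide +kernel

theorem blk1 : allL [9,10,11,12,13,14,15,16] (fun x => allR 0 70 232 fun q => force (tb x q) fun r =>
    cnd (Nat.ble r 16239) (Nat.beq (Nat.div r 4) (RuM.tb x (Nat.div q 4))) false) = true := by decide +kernel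

theorem blk {x : ℕ} (hx : x ∈ Rux.L) {q : ℕ} (hq : q < 16240) :
    (gp cn x)⁻¹ q < 16240 ∧ (gp cn x)⁻¹ q / 4 = (gp Rux.nets x)⁻¹ (q / 4) := by
  have : (force (tb x q) fun r =>
      cnd (Nat.ble r 16239) (Nat.beq (Nat.div r 4) (RuM.tb x (Nat.div q 4))) false) = true := by
    rcases (show x ∈ [1,2,3,4,5,6,7,8] ∨ x ∈ [9,10,11,12,13,14,15,16] by revert x; decide) with h | h
    exacts [allR_sound (allL_iff.1 blk0 x h) (Nat.zero_le _) hq, allR_sound (allL_iff.1 blk1 x h) (Nat.zero_le _) hq]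
  rw [force_eq, cnd_tt, ble_tt, beq_tt, htb, RuM.htb] at this
  exact ⟨Nat.lt_succ_of_le this.1, this.2⟩

theorem base : IsBase GG [0, 4, 8, 6620] := by
  obtain ⟨σ, -, h2, h3⟩ := exists_sigma
  let M : Submonoid GG := ⟨⟨{g | ∀ q < 16240, g.1⁻¹ q < 16240 ∧ g.1⁻¹ q / 4 = (σ g).1⁻¹ (q / 4)}, fun {a b} ha hb q hq => by
    rw [map_mul, coe_mul, coe_mul, mul_inv_rev, mul_inv_rev, Equiv.Perm.mul_apply, Equiv.Perm.mul_apply, ← (ha q hq).2]
    exact hb _ (ha q hq).1⟩, fun q hq => by simpa using hq⟩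
  let K : Subgroup GG := Subgroup.mk M fun {a} ha => by
      obtain ⟨n, hn⟩ : a⁻¹ ∈ Submonoid.powers a := mem_powers_iff_mem_zpowers.2 (inv_mem (mem_zpowers a))
      rw [← hn]
      exact M.pow_mem ha n
  have hK : ⊤ ≤ K := by
    rw [← cl_sval_top, cl_le]
    intro x hx q hq
    rw [show sval GG (gp cn) x = ⟨_, mem_cl hx⟩ from Subtype.ext (coe_sval (mem_cl hx)), h3 x hx]
    exact blk hx hq
  intro g hg hb
  have a : ∀ b ∈ [0, 4, 8, 6620], (σ ⟨g, hg⟩).1⁻¹ (b / 4) = b / 4 := fun b h => by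
    rw [← (hK (mem_top ⟨g, hg⟩) b (by clear hb; revert b; decide)).2]
    exact congrArg (· / 4) (Equiv.Perm.inv_eq_iff_eq.2 (hb b h).symm)
  have := RuM.base _ (inv_mem (σ ⟨g, hg⟩).2) (by simpa using a)
  refine ((h2 ⟨g, hg⟩).1 (Subtype.ext (inv_eq_one.1 this))).resolve_right fun e => ?_
  have := z0
  rw [← show g = _ from e, Equiv.Perm.inv_eq_iff_eq.2 (hb 0 (by simp)).symm] at this
  omega

end Cfsg.Lib.Comp.Rz
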