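/-
Involutions and fourth powers in the double cover of the Rudvalis group.
-/
import Cfsg.Agent.Lib.Comp.Rz.C0
import Cfsg.Agent.Lib.Comp.Rz.C1
import Cfsg.Agent.Lib.Comp.Rz.C2
import Cfsg.Agent.Lib.Comp.Rz.C3
import Cfsg.Agent.Lib.Layer.Zs
import Cfsg.Agent.Lib.Invol.Sylow2
import Cfsg.Agent.Lib.Mult.Prod
import Cfsg.Agent.S2051
import Cfsg.Agent.S2077

set_option autoImplicit false
set_option maxRecDepth 100000
set_option maxHeartbeats 400000

namespace Cfsg.Lib.Comp.Rz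

open Subgroup Cfsg.Lib.RuL
open scoped commutatorElement

theorem chk_all {n : ℕ} (h : n < 16384) : chk n = true := by
  rcases (show n < 1024 ∨ (1024 ≤ n ∧ n < 2048) ∨ (2048 ≤ n ∧ n < 3072) ∨ (3072 ≤ n ∧ n < 4096) ∨
    (4096 ≤ n ∧ n < 5120) ∨ (5120 ≤ n ∧ n < 6144) ∨ (6144 ≤ n ∧ n < 7168) ∨ (7168 ≤ n ∧ n < 8192) ∨
    (8192 ≤ n ∧ n < 9216) ∨ (9216 ≤ n ∧ n < 10240) ∨ (10240 ≤ n ∧ n < 11264) ∨ (11264 ≤ n ∧ n < 12288) ∨
    (12288 ≤ n ∧ n < 13312) ∨ (13312 ≤ n ∧ n < 14336) ∨ (14336 ≤ n ∧ n < 15360) ∨ (15360 ≤ n ∧ n < 16384) by omega)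
    with h | h | h | h | h | h | h | h | h | h | h | h | h | h | h | h
  exacts [allR_sound ck0 (Nat.zero_le _) h, allR_sound ck1 h.1 h.2, allR_sound ck2 h.1 h.2, allR_sound ck3 h.1 h.2,
    allR_sound ck4 h.1 h.2, allR_sound ck5 h.1 h.2, allR_sound ck6 h.1 h.2, allR_sound ck7 h.1 h.2,
    allR_sound ck8 h.1 h.2, allR_sound ck9 h.1 h.2, allR_sound ck10 h.1 h.2, allR_sound ck11 h.1 h.2,
    allR_sound ck12 h.1 h.2, allR_sound ck13 h.1 h.2, allR_sound ck14 h.1 h.2, allR_sound ck15 h.1 h.2]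

/-- The property checked. -/
def Spec (x : Equiv.Perm ℕ) : Prop :=
  x ^ 4 ≠ gp cn 17 ∧ (x * x = 1 → x = 1 ∨ x = gp cn 17 ∨
    ∃ g ∈ GG, g * x = gp cn 1 * g ∨ g * x = gp cn 1 * gp cn 17 * g)

theorem cnd_ff {a b : ℕ} {x : Bool} (h : cnd (Nat.beq a b) false x = true) : a ≠ b ∧ x = true := by
  rw [cnd_eq] at h
  split_ifs at h with e
  exact ⟨fun c => e (beq_tt.2 c), h⟩

theorem chw_sound {w : List ℕ} {h : ℕ} (e : chw w h = true) : Spec (ev (gp cn) w) := by
  have p4 : ∀ p, wap tb w (wap tb w (wap tb w (wap tb w p))) = (ev (gp cn) w ^ 4)⁻¹ p := fun p => by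
    simp only [wap_eq htb, pow_succ, pow_zero, one_mul, mul_inv_rev, Equiv.Perm.mul_apply]
  have s4 : ∀ {x : Equiv.Perm ℕ}, x ^ 4 = x * x * (x * x) := by intro x; simp only [pow_succ, pow_zero, one_mul, mul_assoc]
  unfold chw at e
  rw [cnd_eq] at e
  split_ifs at e
  · rw [force_eq, force_eq, p4] at e
    obtain ⟨e1, e2⟩ := cnd_ff e
    refine ⟨fun c => (cnd_ff e2).1 (by rw [c, htb]), fun c => (e1 (by rw [s4, c]; rfl)).elim⟩
  rw [cnd_eq] at e
  split_ifs at e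
  · have := eqw e
    rw [apd_eq, ev_append, ev_single] at this
    exact ⟨by rw [s4, this, zz]; exact z_ne.symm, fun c => (z_ne (this.symm.trans c)).elim⟩
  rw [cnd_eq] at e
  split_ifs at e
  · rw [force_eq, cnd_tt] at e
    have h1 := eqw e.1
    rw [apd_eq, ev_append, ev_nil] at h1
    obtain ⟨h2, -, h3⟩ := eqW_perm htb base (fun _ => memL) e.2
    rw [apd_eq] at h2 h3
    refine ⟨by rw [s4, h1, one_mul]; exact z_ne.symm, fun _ => .inr (.inr ⟨_,
      ev_mem fun x hx => memL (h2 x (List.mem_append_left _ hx)), ?_⟩)⟩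
    rw [ev_append, cnd_eq] at h3
    split_ifs at h3
    · exact .inl h3
    · exact .inr (by rw [h3, ev_cons, ev_cons, mul_assoc])
  · rw [force_eq, force_eq, force_eq, cnd_tt, beq_tt, p4] at e
    refine ⟨fun c => ?_, fun c => ((cnd_ff e.2).1 ?_).elim⟩
    · have := e.1
      rw [c, z0] at this
      omega
    · rw [wap_eq htb, wap_eq htb, ← Equiv.Perm.mul_apply, ← mul_inv_rev, c]; rfl

theorem z_comm {g : Equiv.Perm ℕ} (hg : g ∈ GG) : g * gp cn 17 = gp cn 17 * g :=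
  mem_centralizer_singleton_iff.1 ((show GG ≤ centralizer {gp cn 17} from cl_le.2 fun x hx =>
    mem_centralizer_singleton_iff.2 (by simpa [ev_cons, ev_nil] using zcomm hx)) hg)

theorem Spec.mul_z {x : Equiv.Perm ℕ} (hx : x ∈ GG) (h : Spec x) : Spec (x * gp cn 17) := by
  have c : Commute x (gp cn 17) := z_comm hx
  have z2 : gp cn 17 ^ 2 = 1 := by rw [sq, zz]
  refine ⟨by rw [c.mul_pow, show 4 = 2 * 2 from rfl, pow_mul (gp cn 17), z2, one_pow, mul_one]; exact h.1, fun e => ?_⟩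
  rw [← sq, c.mul_pow, z2, mul_one, sq] at e
  rcases h.2 e with k | k | ⟨g, hg, k | k⟩
  · exact .inr (.inl (by rw [k, one_mul]))
  · exact .inl (by rw [k, zz])
  · exact .inr (.inr ⟨g, hg, .inr (by rw [← mul_assoc, k, mul_assoc, z_comm hg, mul_assoc])⟩)
  · exact .inr (.inr ⟨g, hg, .inl (by
      rw [← mul_assoc, k, mul_assoc, z_comm hg, mul_assoc, ← mul_assoc (gp cn 17), zz, one_mul])⟩)

theorem nfw_last {Γ : Type*} [Group Γ] (γ : ℕ → Γ) (t : ℕ) (T : List ℕ) (n : ℕ) : ∃ m < 2 ^ T.length,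
    ev γ (nfw (T ++ [t]) n) = ev γ (nfw T m) ∨ ev γ (nfw (T ++ [t]) n) = ev γ (nfw T m) * γ t := by
  induction T generalizing n with
  | nil =>
    refine ⟨0, by simp, ?_⟩
    rw [List.nil_append, nfw_cons]
    split_ifs
    exacts [.inr (by simp [nfw, ev_cons, ev_nil]), .inl rfl]
  | cons a T ih =>
    obtain ⟨m, hm, e⟩ := ih (n / 2)
    refine ⟨2 * m + n % 2, by rw [List.length_cons, pow_succ]; omega, ?_⟩
    rw [List.cons_append, nfw_cons, nfw_cons, show (2 * m + n % 2) / 2 = m by omega,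
      show (2 * m + n % 2) % 2 = n % 2 by omega]
    split_ifs
    · simp only [ev_cons, mul_assoc]
      exact e.imp (congrArg _) (congrArg _)
    · exact e

theorem SS_le : SS ≤ GG := cl_le.2 fun x hx => memL (by revert x; decide)

theorem spec_S {s : Equiv.Perm ℕ} (hs : s ∈ SS) : Spec s := by
  obtain ⟨n, -, rfl⟩ := pc_sound pc_ok s hs
  obtain ⟨m, hm, e⟩ := nfw_last (gp cn) 17 T0 n
  have h : Spec (ev (gp cn) (nfw T0 m)) := by
    have := chk_all hm
    rw [chk, cnd_eq] at this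
    split_ifs at this with k
    · rw [beq_tt.1 k, show nfw T0 0 = [] by decide +kernel, ev_nil]
      exact ⟨by rw [one_pow]; exact z_ne.symm, fun _ => .inl rfl⟩
    · exact chw_sound (force_eq _ _ ▸ this)
  rcases e with e | e
  · exact e ▸ h
  · exact e ▸ h.mul_z (ev_mem fun x hx => memL ((show ∀ x ∈ T0, x ∈ LL by decide) x (nfw_sub x hx)))

theorem card_S : Nat.card SS = 32768 := by
  refine le_antisymm ?_ lbS
  have := Nat.card_le_card_of_surjective (fun n : Fin 32768 => (⟨_, ev_mem fun x hx => mem_cl (nfw_sub (n := n) x hx)⟩ : SS))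
    fun s => by
      obtain ⟨n, hn, e⟩ := pc_sound pc_ok s.1 s.2
      exact ⟨⟨n, hn⟩, Subtype.ext e.symm⟩
  simpa using this

/-- An element given by a word. -/
noncomputable def wd (w : List ℕ) : GG := ev (sval GG (gp cn)) w

theorem coe_wd {w : List ℕ} (h : subB w LL = true) : (wd w : Equiv.Perm ℕ) = ev (gp cn) w :=
  coe_ev_sval fun x hx => memL (sub_of_subB h x hx)

theorem wd_app (u v : List ℕ) : wd u * wd v = wd (u ++ v) := (ev_append _ _ _).symm

theorem wd_eq {u v : List ℕ} (h : eqW tb BB LL u v = true) : wd u = wd v := by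
  have := eqw h
  unfold eqW at h
  rw [cnd_tt, cnd_tt] at h
  exact Subtype.ext (by rw [coe_wd h.1, coe_wd h.2.1, this])

theorem wd_ne {u v : List ℕ} (p : ℕ) (h : cnd (subB u LL) (cnd (subB v LL)
    (cnd (Nat.beq (wap tb u p) (wap tb v p)) false true) false) false = true) : wd u ≠ wd v := fun e => by
  rw [cnd_tt, cnd_tt] at h
  have := congrArg Subtype.val e
  rw [coe_wd h.1, coe_wd h.2.1] at this
  exact (cnd_ff h.2.2).1 (by rw [wap_eq htb, wap_eq htb, this])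

theorem wd_comm {u u' v v' w : List ℕ} (h1 : eqW tb BB LL (u ++ u') [] = true) (h2 : eqW tb BB LL (v ++ v') [] = true)
    (h3 : eqW tb BB LL (u ++ v ++ u' ++ v') w = true) : ⁅wd u, wd v⁆ = wd w := by
  have a : wd u * wd u' = 1 := (wd_app _ _).trans (wd_eq h1)
  have b : wd v * wd v' = 1 := (wd_app _ _).trans (wd_eq h2)
  rw [commutatorElement_def, inv_eq_of_mul_eq_one_right a, inv_eq_of_mul_eq_one_right b, wd_app, wd_app, wd_app, wd_eq h3]

/-- The facts on the double cover. -/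
def Fa (Γ : Type*) [Group Γ] : Prop :=
  ∃ ζ s : Γ, (∀ u, u ∈ center Γ ↔ u = 1 ∨ u = ζ) ∧ ζ ≠ 1 ∧ (∀ a : Γ, a ^ 4 ≠ ζ) ∧
    (∀ u : Γ, u ^ 2 = 1 → u = 1 ∨ u = ζ ∨ IsConj s u ∨ IsConj (s * ζ) u) ∧
    (∃ p q, p * s = s * p ∧ q * s = s * q ∧ ⁅p, q⁆ ^ 4 = s) ∧
    ∃ p q, p * s = s * p ∧ q * s = s * q ∧ ⁅p, q⁆ ^ 2 = 1 ∧ (⁅p, q⁆ ≠ 1 ∧ ⁅p, q⁆ ≠ ζ) ∧ (⁅p, q⁆ * s ≠ 1 ∧ ⁅p, q⁆ * s ≠ ζ) ∧
      IsConj ⁅p, q⁆ (⁅p, q⁆ * s * ζ)

theorem Fa.congr {Γ Δ : Type*} [Group Γ] [Group Δ] (h : Fa Γ) (e : Γ ≃* Δ) : Fa Δ := by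
  obtain ⟨ζ, s, h1, h2, h3, h4, ⟨p, q, a1, a2, a3⟩, p', q', b1, b2, b3, b4, b5, b6⟩ := h
  have n : ∀ {a : Γ}, a ≠ 1 ∧ a ≠ ζ → e a ≠ 1 ∧ e a ≠ e ζ := fun h =>
    ⟨(map_ne_one_iff e e.injective).2 h.1, e.injective.ne h.2⟩
  refine ⟨e ζ, e s, e.surjective.forall.2 fun u => ?_, (map_ne_one_iff e e.injective).2 h2,
    e.surjective.forall.2 fun a c => h3 a (e.injective (by rw [map_pow, c])), e.surjective.forall.2 fun u c => ?_,
    ⟨e p, e q, by simpa using congrArg e a1, by simpa using congrArg e a2, by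
      rw [← map_commutatorElement, ← map_pow, a3]⟩, e p', e q', by simpa using congrArg e b1, by simpa using congrArg e b2,
    by rw [← map_commutatorElement, ← map_pow, b3, map_one], by rw [← map_commutatorElement]; exact n b4,
    by rw [← map_commutatorElement, ← map_mul]; exact n b5,
    by rw [← map_commutatorElement, ← map_mul, ← map_mul]; exact e.toMonoidHom.map_isConj b6⟩
  · rw [mem_center_iff, e.surjective.forall, map_eq_one_iff e e.injective, e.injective.eq_iff, ← h1, mem_center_iff]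
    simp only [← map_mul, e.injective.eq_iff]
  · rw [← map_mul]
    exact (h4 u (e.injective (by rw [map_pow, c, map_one]))).imp (fun k => by rw [k, map_one])
      (Or.imp (congrArg e) (Or.imp e.toMonoidHom.map_isConj e.toMonoidHom.map_isConj))

theorem fa : Fa GG := by
  obtain ⟨σ, h1, h2, -⟩ := exists_sigma
  have ez : (wd [17] : Equiv.Perm ℕ) = gp cn 17 := (coe_wd (by decide +kernel)).trans (ev_single _ _)
  have es : (wd [1] : Equiv.Perm ℕ) = gp cn 1 := (coe_wd (by decide +kernel)).trans (ev_single _ _)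
  have hk : ∀ u, u ∈ σ.ker ↔ u = 1 ∨ u = wd [17] := fun u => (h2 u).trans (by rw [← ez, ← coe_one, Subtype.coe_inj, Subtype.coe_inj])
  have hz : wd [17] ≠ 1 := fun c => z_ne (ez.symm.trans (congrArg Subtype.val c))
  have cG : Nat.card GG = 2 * 145926144000 := by
    rw [← σ.ker.card_mul_index, index_ker, MonoidHom.range_eq_top.2 h1.1, card_top, Rux.card,
      show Nat.card σ.ker = 2 from ?_]
    rw [← SetLike.coe_sort_coe, show (σ.ker : Set GG) = {1, wd [17]} from Set.ext hk, Nat.card_coe_set_eq,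
      Set.ncard_pair hz.symm]
  have cS : Nat.card (SS.subgroupOf GG) = 2 ^ 15 := (Nat.card_congr (subgroupOfEquivOfLe SS_le).toEquiv).trans card_S
  have := Fact.mk Nat.prime_two
  let P := (IsPGroup.of_card cS).toSylow (by
    have := (SS.subgroupOf GG).card_mul_index
    rw [cS, cG] at this
    omega)
  have sp : ∀ (u : GG) (k : ℕ), u ^ 2 ^ k = 1 → ∃ g : GG, Spec (g * u * g⁻¹ : GG) := fun u k hu =>
    (Invol.exists_conj_mem_sylow P hu).imp fun g hg => spec_S hg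
  have cz : ∀ g : GG, g * wd [17] = wd [17] * g := mem_center_iff.1 (h1.2.1 ((hk _).2 (.inr rfl)))
  have c1 : ⁅wd [10], wd [19, 21]⁆ = wd [20, 2] :=
    wd_comm (u' := [11]) (v' := [21, 21, 21, 19, 19, 19, 19, 19, 19, 19]) (by decide +kernel) (by decide +kernel)
      (by decide +kernel)
  refine ⟨wd [17], wd [1], fun u => ⟨fun hu => (hk u).1 ?_, fun hu => h1.2.1 ((hk u).2 hu)⟩, hz, fun a c => ?_,
    fun u c => ?_, ⟨wd [10], wd [19], ?_, ?_, ?_⟩, wd [10], wd [19, 21], ?_, ?_, ?_, ⟨?_, ?_⟩, ⟨?_, ?_⟩, ?_⟩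
  · rw [MonoidHom.mem_ker, ← mem_bot, ← center_HH]
    exact mem_center_iff.2 fun g => by
      obtain ⟨g, rfl⟩ := h1.1 g
      rw [← map_mul, mem_center_iff.1 hu, map_mul]
  · obtain ⟨g, hg⟩ := sp a 3 (by
      rw [show 2 ^ 3 = 4 * 2 from rfl, pow_mul, c, sq]; exact Subtype.ext (by rw [coe_mul, ez, zz]; rfl))
    exact hg.1 (by rw [← coe_pow, conj_pow, c, cz, mul_inv_cancel_right, ez])
  · obtain ⟨g, hg⟩ := sp u 1 c
    rcases hg.2 (by rw [← sq, ← coe_pow, conj_pow, c]; simp) with k | k | ⟨h, hh, k | k⟩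
    · exact .inl (by simpa using (Subtype.ext k : g * u * g⁻¹ = 1))
    · refine .inr (.inl ?_)
      have : g * u * g⁻¹ = wd [17] := Subtype.ext (k.trans ez.symm)
      rw [mul_inv_eq_iff_eq_mul, ← cz] at this
      exact mul_left_cancel this
    · refine .inr (.inr (.inl (IsConj.symm (isConj_iff.2 ⟨⟨h, hh⟩ * g, Subtype.ext ?_⟩))))
      rw [es, ← mul_inv_eq_iff_eq_mul.2 k]; simp [mul_assoc]
    · refine .inr (.inr (.inr (IsConj.symm (isConj_iff.2 ⟨⟨h, hh⟩ * g, Subtype.ext ?_⟩))))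
      rw [coe_mul (y := wd [17]), es, ez, ← mul_inv_eq_iff_eq_mul.2 k]; simp [mul_assoc]
  · rw [wd_app, wd_app]; exact wd_eq (by decide +kernel)
  · rw [wd_app, wd_app]; exact wd_eq (by decide +kernel)
  · rw [wd_comm (u' := [11]) (v' := [19, 19, 19, 19, 19, 19, 19]) (w := [10, 19, 11, 19, 19, 19, 19, 19, 19, 19])
      (by decide +kernel) (by decide +kernel) (by decide +kernel)]
    simp only [pow_succ, pow_zero, one_mul, wd_app]
    exact wd_eq (by decide +kernel)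
  · rw [wd_app, wd_app]; exact wd_eq (by decide +kernel)
  · rw [wd_app, wd_app]; exact wd_eq (by decide +kernel)
  · rw [c1, sq, wd_app]; exact wd_eq (v := []) (by decide +kernel)
  · rw [c1]; exact wd_ne (v := []) 8 (by decide +kernel)
  · rw [c1]; exact wd_ne 0 (by decide +kernel)
  · rw [c1, wd_app]; exact wd_ne (v := []) 4 (by decide +kernel)
  · rw [c1, wd_app]; exact wd_ne 0 (by decide +kernel)
  · rw [c1, wd_app, wd_app]
    have a : IsConj (wd [20, 2]) (wd [1, 17]) := isConj_iff.2 ⟨wd [13, 4, 23], mul_inv_eq_iff_eq_mul.2 (by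
      rw [wd_app, wd_app]; exact wd_eq (by decide +kernel))⟩
    exact a.trans (IsConj.symm (isConj_iff.2 ⟨wd [13, 5], mul_inv_eq_iff_eq_mul.2 (by
      rw [wd_app, wd_app]; exact wd_eq (by decide +kernel))⟩))

theorem fa_of {A : Type*} [Group A] (hp : Group.IsPerfect A) (hZ : Nat.card (center A) = 2)
    (e : A ⧸ center A ≃* Spor.Ru) : Fa A := by
  obtain ⟨e0⟩ := iso
  obtain ⟨σ, h1, h2, -⟩ := exists_sigma
  have := Fact.mk Nat.prime_two
  have k : ((e.trans e0).toMonoidHom.comp (QuotientGroup.mk' (center A))).ker = center A := by ext; simp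
  have hc : Nat.card σ.ker = 2 := by
    rw [← SetLike.coe_sort_coe, show (σ.ker : Set GG) = {1, ⟨_, memL (x := 17) (by decide)⟩} from
      Set.ext fun u => (h2 u).trans ⟨fun h => h.imp Subtype.ext Subtype.ext,
        fun h => h.imp (congrArg Subtype.val) (congrArg Subtype.val)⟩, Nat.card_coe_set_eq,
      Set.ncard_pair fun c => z_ne (congrArg Subtype.val c).symm]
  obtain ⟨f, -⟩ := Mult.covers_iso (Mult.mult_congr_left Cfsg.Agent.S2051.result e0) (σ₂ := σ)
    (σ₁ := (e.trans e0).toMonoidHom.comp (QuotientGroup.mk' (center A))) (by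
      rw [show Nat.card (Abelianization HH) = 1 from (index_eq_one.2 perfect_HH)]; simp)
    ⟨(e.trans e0).surjective.comp (QuotientGroup.mk'_surjective _), k.le, hp.commutator_eq_top ▸ le_top⟩ h1
    ⟨mulEquivOfPrimeCardEq (p := 2) (by rw [k]; exact hZ) (by simp)⟩ ⟨mulEquivOfPrimeCardEq (p := 2) hc (by simp)⟩
  exact fa.congr f.symm

theorem main {G : Type*} [Group G] [Finite G] (hO : oddCore G = ⊥) (A : Subgroup G) (hA : IsStandardSubgroup A)
    (hZ : Nat.card (center A) = 2) (e : A ⧸ center A ≃* Spor.Ru)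
    (hR : ∀ R : Sylow 2 (centralizer (A : Set G)), IsCyclic (R : Subgroup (centralizer (A : Set G)))) : A.Normal := by
  obtain ⟨ζ, s, h1, h2, h3, h4, ⟨p, q, a1, a2, a3⟩, p', q', b1, b2, b3, b4, b5, b6⟩ := fa_of hA.1.1 hZ e
  have hc : ζ ∈ center A := (h1 ζ).2 (.inr rfl)
  have z2 : ζ ^ 2 = 1 := ((h1 _).1 (pow_mem hc 2)).resolve_right fun c => h2 (by simpa [sq] using c)
  have := Fact.mk Nat.prime_two
  refine Layer.Zs.normal hO A hA hR ζ (le_antisymm (fun u hu => ?_) (zpowers_le.2 hc)) (orderOf_eq_prime z2 h2)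
    (Layer.Zs.out_of_quot hA.1.1 fun ψ => ?_) h3 s (fun u hu => or_assoc.2 (h4 u hu) |>.imp_left (h1 u).2)
    ⟨_, commutator_mem_commutator (mem_centralizer_singleton_iff.2 a1) (mem_centralizer_singleton_iff.2 a2), a3⟩
    ⟨_, commutator_mem_commutator (mem_centralizer_singleton_iff.2 b1) (mem_centralizer_singleton_iff.2 b2), b3,
      fun c => ((h1 _).1 c).elim b4.1 b4.2, fun c => ((h1 _).1 c).elim b5.1 b5.2, b6⟩
  · rcases (h1 u).1 hu with rfl | rfl
    exacts [one_mem _, mem_zpowers _]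
  · obtain ⟨a, ha⟩ := (index_eq_one.1 Cfsg.Agent.S2077.result).ge (mem_top (MulAut.congr e ψ))
    refine ⟨e.symm a, MulEquiv.ext fun x => e.injective ?_⟩
    simpa using (congrArg (fun f : MulAut Spor.Ru => f (e x)) ha).symm

end Cfsg.Lib.Comp.Rz
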